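import Cfsg.Agent.KZ.TF.Mix

/-!
# LV, `²F₄`: the multiplicity vector of a character which meets a trivial label (helper90)

`rowG` is `KZ.TF.rowF` for an arbitrary torus.
-/

set_option autoImplicit false
set_option linter.unusedSectionVars false

namespace Cfsg.Agent.LV.TF

open Cfsg Cfsg.Agent.DL Cfsg.Agent.DL.PP Cfsg.Agent.KZ.Lie Cfsg.Agent.Characters.Core Matrix Cfsg.Agent.KZ.ClD
  Cfsg.Agent.KZ.Cl Cfsg.Agent.KZ.DatX Cfsg.Agent.KZ.TF.Mix Cfsg.Agent.KZ.TF Cfsg.Agent.KZ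

variable {m : ℕ} {k : Type} [Field k] [CharP k 2] [IsAlgClosed k] {X : XF hpF4 2 k ((2 : ℤ) ^ m • GamF)}
  {f : Fr X.D} [Fintype ↥(GF X.F ⊤)]

theorem rowG (hA : Api f) (χ : IrrCharacter ↥(GF X.F ⊤)) (h1 : χ.1 ≠ fun _ => 1) (hs : χ.1 ≠ stF f) {i₀ : Fin 11}
    (h4 : classInner χ.1 (RW f (wT X i₀) 1) ≠ 0) : ∃ (n : Fin 11 → ℤ) (t j : Fin 3 → ℤ), Cand n t j ∧
      (∀ i, classInner χ.1 (RW f (wT X i) 1) = n i) ∧ 96 * χ.1 1 = deg96 (2 ^ m) n t j := by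
  obtain ⟨R⟩ := rw0 hA
  obtain ⟨n, hn⟩ : ∃ n : Fin 11 → ℤ, ∀ i, classInner χ.1 (RW f (wT X i) 1) = n i := ⟨_, fun _ => G2.mu_spec (RW_gen f _ _) χ⟩
  obtain ⟨t, ht⟩ : ∃ t : Fin 3 → ℤ, ∀ a, classInner χ.1 (RW f (wT X (iS a)) (R.s a)) = t a :=
    ⟨_, fun _ => G2.mu_spec (RW_gen f _ _) χ⟩
  have hw : ∀ i, (wC i : ℂ) = 96 / nC i := fun i => by fin_cases i <;> simp [wC, nC] <;> norm_num
  obtain ⟨p0, q0⟩ := pt_fam (s := fun _ => 1) (P := (· = 1)) (fun v c c' e e' => eq_one_of_rel (e' ▸ e)) (fun _ => rfl)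
    (by decide) R.ip1 (fun u c e _ => ⟨cl X u, by rw [e, RW_cl u]⟩) hn
  obtain ⟨p1, q1⟩ := pt_fam (P := fun c => c ^ 3 = 1 ∧ c ≠ 1)
    (fun v c c' e e' => ⟨cube_of_rel e e'.1, fun e'' => not_rel_one e'.2 v (e'' ▸ e)⟩) (fun a => ⟨R.s_pow a, R.s_ne a⟩)
    (by decide) R.ips (fun u c e => R.three u c e.1 e.2) ht
  have q0' : ∑ i, (n i : ℂ) ^ 2 / nC i = (((∑ i, wC i * n i ^ 2 : ℤ) / 96 : ℝ) : ℂ) := by
    push_cast
    rw [Finset.sum_div]
    exact Finset.sum_congr rfl fun i _ => by rw [hw]; ring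
  have hpos : 0 < ∑ i, wC i * n i ^ 2 := Finset.sum_pos' (fun i _ => mul_nonneg (by revert i; decide) (sq_nonneg _))
    ⟨i₀, Finset.mem_univ _, mul_pos ((by decide : ∀ i, 0 < wC i) _)
      (sq_pos_of_ne_zero fun e => h4 (by rw [hn, e, Int.cast_zero]))⟩
  obtain ⟨j, y, p2, q2, d2, -⟩ := exists_pt hA h4 p0 (q0.trans q0') (by positivity)
  have pp := (p0.add p1 fun c e e' => e'.2 e).add p2 fun c e e' => e' (e.elim (fun e => by rw [e, one_pow]) (·.1))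
  have key : ∀ (φ : X.D.W → ℂ) (e : Fin 11 → ℤ), classInner χ.1 (avg f ⊤ φ 1 1) = 0 →
      (∀ i, classInner (avg f ⊤ φ 1 1) (RW f (wT X i) 1) = e i) → ∑ i, wC i * e i * n i = 0 := fun φ e e1 e2 => by
    have e3 : classInner (∑ i, ((n i : ℂ) / nC i) • RW f (wT X i) 1) (avg f ⊤ φ 1 1) = 0 := by
      rw [← e1, ClD.ip_avg', ClD.ip_avg']
      simp only [p0.ins _ _ rfl]
    have e4 := ip_symm e3
    simp only [classInner_sum_right, classInner_smul_right, e2, map_div₀, map_intCast, map_natCast] at e4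
    have e5 : ∑ i, (wC i : ℂ) * e i * n i = 96 * ∑ i, (n i : ℂ) / nC i * e i := by
      rw [Finset.mul_sum]
      exact Finset.sum_congr rfl fun i _ => by rw [hw]; ring
    rw [e4, mul_zero] at e5
    exact_mod_cast e5
  have fd := four_dvd hA χ hn
  refine ⟨n, t, j, ⟨?_, key _ sG (classInner_irr_ne χ.2 hA.st.1 hs) R.st, ?_, ?_, fd 2, fd 3, fd 4, ?_, ?_⟩, hn, ?_⟩
  · simpa using key _ (fun _ => 1) (by rw [hA.one]; exact classInner_irr_ne χ.2 isIrr_one h1) fun i => by rw [hA.one, R.one, Int.cast_one]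
  · have : 4 ∣ 2 * n 0 + n 1 + n 1 := fd 0
    omega
  · have : 4 ∣ 2 * n 1 + n 4 + n 4 := fd 1
    omega
  · have e1 := G2.mu_spec R.half χ
    rw [show (fun g => 2⁻¹ * (RW f (wT X 1) (R.s 0) g + RW f (wT X 4) (R.s 1) g)) =
      (2⁻¹ : ℂ) • (RW f (wT X (iS 0)) (R.s 0) + RW f (wT X (iS 1)) (R.s 1)) from rfl, classInner_smul_right,
      classInner_add_right, ht, ht, map_inv₀, map_ofNat, inv_mul_eq_iff_eq_mul₀ two_ne_zero] at e1
    exact ⟨_, by exact_mod_cast e1⟩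
  · have e1 := pp.bes (x := (∑ i, wC i * n i ^ 2 + (48 * t 0 ^ 2 + 16 * t 1 ^ 2 + 32 * t 2 ^ 2) +
        48 * (j 0 ^ 2 + j 1 ^ 2 + j 2 ^ 2) : ℤ) / 96) (by
      rw [classInner_add_right, classInner_add_right, q0, q0', q1, q2, Fin.sum_univ_three]
      simp only [nS, cons_val]
      push_cast
      ring)
    rw [div_le_one (by norm_num)] at e1
    exact_mod_cast e1
  · rw [pp.deg hA fun c => by
      by_cases e : c ^ 3 = 1
      · exact .inl ((em (c = 1)).imp_right fun e' => ⟨e, e'⟩)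
      · exact .inr e]
    have e1 : 96 * ∑ i, (n i : ℂ) / nC i * dG (2 ^ m) i = ∑ i, (wC i : ℂ) * n i * dG (2 ^ m) i := by
      rw [Finset.mul_sum]
      exact Finset.sum_congr rfl fun i _ => by rw [hw]; ring
    simp only [Pi.add_apply, Finset.sum_apply, Pi.smul_apply, smul_eq_mul, R.deg _ _ (G2.fx_one _), R.deg _ _ (R.s_fx _)]
    simp only [Fin.sum_univ_three, deg96, nS, iS, cons_val]
    push_cast
    linear_combination e1 + 24 * d2

end Cfsg.Agent.LV.TF
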