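import Cfsg.Agent.LV.TF.Gen
import Cfsg.Agent.LV.TF.Fl
import Cfsg.Agent.LV.TF.RowG
import Cfsg.Agent.LV.Blk.Sit
import Cfsg.Agent.KZ.Mts.Main
import Cfsg.Agent.KZ.DatX.Main
import Cfsg.Agent.S0135

/-!
# LV, `²F₄`, `p = 5`: the row (helper90)
-/

set_option autoImplicit false
set_option linter.unusedSectionVars false

namespace Cfsg.Agent.LV.TF

open Cfsg Cfsg.Agent.DL Cfsg.Agent.DL.PP Cfsg.Agent.DL.Uni Cfsg.Agent.KZ.Lie Cfsg.Agent.Characters.Core Matrix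
  Cfsg.Agent.KZ.DatX Cfsg.Agent.KZ.McX Cfsg.Agent.KZ.TF.Mix Cfsg.Agent.KZ.TF Cfsg.Agent.KZ Cfsg.Agent.KZ.G2 Cfsg.Agent.LV.Blk
  Cfsg.Agent.Blocks

/-! ### arithmetic -/

theorem fac_mod {r s n : ℤ} (h : r ≡ s [ZMOD n]) (a : Fin 7) : fac r a ≡ fac s a [ZMOD n] := by
  fin_cases a <;> simp only [fac, Fin.reduceFinMk, cons_val] <;> gcongr

/-- exactly one factor is divisible by `5` -/
theorem five (m : ℕ) : ∃ a₀ : Fin 7, (a₀ = 2 ∨ a₀ = 3) ∧ ∀ a, 5 ∣ fac (2 ^ m) a ↔ a = a₀ := by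
  have h1 : ∀ s : Fin 5, s ≠ 0 → ∃ a₀ : Fin 7, (a₀ = 2 ∨ a₀ = 3) ∧ ∀ a, 5 ∣ fac s a ↔ a = a₀ := by decide
  have h2 : ((2 : ℤ) ^ m) % 5 = ((⟨2 ^ m % 5, Nat.mod_lt _ (by norm_num)⟩ : Fin 5) : ℕ) := by push_cast; rfl
  obtain ⟨a₀, h3, h4⟩ := h1 ⟨2 ^ m % 5, Nat.mod_lt _ (by norm_num)⟩ fun e =>
    absurd (Nat.prime_five.dvd_of_dvd_pow (Nat.dvd_of_mod_eq_zero (congrArg Fin.val e))) (by decide)
  exact ⟨a₀, h3, fun a => ((fac_mod (h2 ▸ (Int.mod_modEq _ 5).symm) a).dvd_iff).trans (h4 a)⟩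

theorem dvd_dG {r : ℤ} {a₀ : Fin 7} (h : ∀ a, 5 ∣ fac r a ↔ a = a₀) (i : Fin 11) : 5 ∣ dG r i ↔ exT i a₀ < exG a₀ := by
  have h5 : Prime (5 : ℤ) := Int.prime_iff_natAbs_prime.2 Nat.prime_five
  rw [dG, h5.dvd_mul, or_iff_right ((by decide : ∀ i, ¬ 5 ∣ sG i) i), h5.dvd_finsetProd_iff]
  refine ⟨fun ⟨a, _, e⟩ => ?_, fun e => ⟨a₀, Finset.mem_univ _, dvd_pow ((h _).2 rfl) (Nat.sub_ne_zero_of_lt e)⟩⟩
  obtain rfl := (h a).1 (h5.dvd_of_dvd_pow e)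
  refine Nat.lt_of_sub_ne_zero fun e' => ?_
  rw [e', pow_zero] at e
  exact absurd e (by decide)

theorem deg_mod {k n : ℕ} {m : Fin 11 → ℤ} {t j : Fin 3 → ℤ} {δ : ℤ} (hk : 2 ≤ k) (hc : Cand m t j) (h0 : 0 < δ)
    (hd : 96 * δ = deg96 (2 ^ k) m t j) (hδ : δ ∣ 2 ^ n * oG (2 ^ k)) {i₀ : Fin 11} (hi : i₀ = 5 ∨ i₀ = 6)
    (h : ∀ i, 5 ∣ dG (2 ^ k) i ↔ i ≠ i₀) (hm : m i₀ ≠ 0) : ¬ 5 ∣ δ := fun h5 => by
  have hp : Prime (5 : ℤ) := Int.prime_iff_natAbs_prime.2 Nat.prime_five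
  obtain ⟨h1, h2⟩ := flt hk hc h0 hd hδ
  have e4 : ∑ i, wC i * m i * dG (2 ^ k) i = 6 * m 0 * dG (2 ^ k) 0 + 24 * m 1 * dG (2 ^ k) 1 + 12 * m 2 * dG (2 ^ k) 2 +
      12 * m 3 * dG (2 ^ k) 3 + 2 * m 4 * dG (2 ^ k) 4 + 1 * m 5 * dG (2 ^ k) 5 + 1 * m 6 * dG (2 ^ k) 6 +
      6 * m 7 * dG (2 ^ k) 7 + 16 * m 8 * dG (2 ^ k) 8 + 8 * m 9 * dG (2 ^ k) 9 + 8 * m 10 * dG (2 ^ k) 10 := Flt.sum11 _
  rw [deg96, e4] at hd
  have d0 := (h 0).2 (by rcases hi with rfl | rfl <;> decide)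
  have d1 := (h 1).2 (by rcases hi with rfl | rfl <;> decide)
  have d2 := (h 2).2 (by rcases hi with rfl | rfl <;> decide)
  have d3 := (h 3).2 (by rcases hi with rfl | rfl <;> decide)
  have d4 := (h 4).2 (by rcases hi with rfl | rfl <;> decide)
  have d7 := (h 7).2 (by rcases hi with rfl | rfl <;> decide)
  have d8 := (h 8).2 (by rcases hi with rfl | rfl <;> decide)
  have d9 := (h 9).2 (by rcases hi with rfl | rfl <;> decide)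
  have d10 := (h 10).2 (by rcases hi with rfl | rfl <;> decide)
  obtain ⟨δ, rfl⟩ := h5
  obtain ⟨x0, d0⟩ := d0
  obtain ⟨x1, d1⟩ := d1
  obtain ⟨x2, d2⟩ := d2
  obtain ⟨x3, d3⟩ := d3
  obtain ⟨x4, d4⟩ := d4
  obtain ⟨x7, d7⟩ := d7
  obtain ⟨x8, d8⟩ := d8
  obtain ⟨x9, d9⟩ := d9
  obtain ⟨x10, d10⟩ := d10
  rw [d0, d1, d2, d3, d4, d7, d8, d9, d10] at hd
  rcases hi with rfl | rfl
  · obtain ⟨x6, d6⟩ := (h 6).2 (by decide)
    rw [d6] at hd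
    refine (hp.dvd_mul.1 (⟨96 * δ - (6 * m 0 * x0 + 24 * m 1 * x1 + 12 * m 2 * x2 + 12 * m 3 * x3 + 2 * m 4 * x4 + m 6 * x6 +
      6 * m 7 * x7 + 16 * m 8 * x8 + 8 * m 9 * x9 + 8 * m 10 * x10 + (48 * t 0 * x1 + 16 * t 1 * x4 + 32 * t 2 * x8) +
      24 * (j 0 * (x2 - x3) - j 1 * x7 + j 2 * (x7 - x6))), by linear_combination -hd⟩ :
        5 ∣ (m 5 + 24 * j 1) * dG (2 ^ k) 5)).elim (h1 hm) fun e => (h 5).1 e rfl
  · obtain ⟨x5, d5⟩ := (h 5).2 (by decide)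
    rw [d5] at hd
    refine (hp.dvd_mul.1 (⟨96 * δ - (6 * m 0 * x0 + 24 * m 1 * x1 + 12 * m 2 * x2 + 12 * m 3 * x3 + 2 * m 4 * x4 + m 5 * x5 +
      6 * m 7 * x7 + 16 * m 8 * x8 + 8 * m 9 * x9 + 8 * m 10 * x10 + (48 * t 0 * x1 + 16 * t 1 * x4 + 32 * t 2 * x8) +
      24 * (j 0 * (x2 - x3) + j 1 * (x5 - x7) + j 2 * x7)), by linear_combination -hd⟩ :
        5 ∣ (m 6 + 24 * -j 2) * dG (2 ^ k) 6)).elim (h2 hm) fun e => (h 6).1 e rfl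

theorem exists_i (m : ℕ) : ∃ i₀ : Fin 11, (i₀ = 5 ∨ i₀ = 6) ∧ ∀ i, 5 ∣ dG (2 ^ m) i ↔ i ≠ i₀ := by
  obtain ⟨a₀, rfl | rfl, h⟩ := five m
  · exact ⟨5, .inl rfl, fun i => (dvd_dG h i).trans (by revert i; decide)⟩
  · exact ⟨6, .inr rfl, fun i => (dvd_dG h i).trans (by revert i; decide)⟩

theorem deg_dvd_card {G : Type} [Group G] [Finite G] (χ : IrrCharacter G) : charDegree (χ : G → ℂ) ∣ Nat.card G := by
  obtain ⟨_, n, ρ, hρ, rfl⟩ := χ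
  have h2 : charDegree ρ.character = Module.finrank ℂ (Fin n → ℂ) := by
    rw [charDegree, Representation.char_one]
    simp
  exact h2 ▸ S0135.result ρ

/-! ### the labels -/

/-- an element of order `8` -/
def v8 : List (Fin 4) := [0, 1, 2, 3, 1, 2]

/-- an element of order `3` -/
def v3 : List (Fin 4) := [0, 1, 2, 3, 0, 1, 2, 3, 0, 1, 2, 3, 0, 1, 2, 3]

theorem chk_v : (tcB v8 (wd 5) (wd 5) = true ∧ tcB v8 (wd 6) (wd 6) = true ∧ tcB v3 (wd 5) (wd 5) = true ∧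
    tcB v3 (wd 6) (wd 6) = true) ∧ mW (v8 ++ v8 ++ v8 ++ v8) 1 = -1 ∧ mW (v3 ++ v3) 1 + mW v3 1 + 1 = 0 := by decide +kernel

theorem eq_one_of {A : Type*} [Monoid A] {c : A} {l n : ℕ} (h : IsL l c) (hn : l.Coprime n) (h1 : c ^ n = 1) : c = 1 :=
  let ⟨j, hj⟩ := h
  (pow_eq_one_iff_of_coprime (hn.pow_left j)).1 ⟨hj, h1⟩

variable {m : ℕ} {k : Type} [Field k] [CharP k 2] [IsAlgClosed k] {X : XF hpF4 2 k ((2 : ℤ) ^ m • GamF)}
  {f : Fr X.D} [Fintype ↥(GF X.F ⊤)] (hA : Api f)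

theorem wm_v8 : wm X (el X v8 ^ 2 ^ 2) = -1 := by
  rw [← chk_v.2.1, ← wm_el X, el_append, el_append, el_append]
  rw [show 2 ^ 2 = 3 + 1 from rfl, pow_succ, pow_three']

theorem wm_v3 : wm X (el X v3) * wm X (el X v3) + wm X (el X v3) + 1 = 0 := by
  rw [← wm_mul, ← el_append, wm_el, wm_el, chk_v.2.2]

include hA

theorem dvd_sum (χ : IrrCharacter ↥(GF X.F ⊤)) {i : Fin 11} (hi : i = 5 ∨ i = 6) (S : Finset (Lbl X.D))
    (hS : ∀ c, c ∈ S ↔ c ≠ 1 ∧ c ∈ LS X.D 5 (wT X i)) : 24 ∣ ∑ c ∈ S, mu (RW f (wT X i) c) χ := by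
  have h1 : ∀ v ∈ CW X.D (wT X i), ∀ c ∈ S, ∀ c', Rel X.D v c' c → c' ∈ S := fun v hv c hc c' e => by
    obtain ⟨h1, h2, j, h3⟩ := (hS c).1 hc
    refine (hS c').2 ⟨fun e' => h1 (eq_one_of_rel' (e' ▸ e)), fx_tc h2 (inv_mem hv) e.symm, j, ?_⟩
    rw [rel_iff.1 e, ← map_pow, h3, map_one]
  have h8 : el X v8 ∈ CW X.D (wT X i) := by
    rcases hi with rfl | rfl
    exacts [(tc_B X).2 chk_v.1.1, (tc_B X).2 chk_v.1.2.1]
  have h3 : el X v3 ∈ CW X.D (wT X i) := by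
    rcases hi with rfl | rfl
    exacts [(tc_B X).2 chk_v.1.2.2.1, (tc_B X).2 chk_v.1.2.2.2]
  have d8 := dvd_lab hA χ h8 Nat.prime_two (a := 2) (wm_inj X (by
    rw [pow_succ 2, pow_mul, sq, wm_mul, wm_v8, TF.wm_one, neg_mul_neg, one_mul])) S (h1 _ h8) fun c hc e => by
      obtain ⟨h1, -, h2⟩ := (hS c).1 hc
      refine h1 (eq_one_of h2 (n := 2) (by decide) (eq_of_chr X.D fun (y : Fin 4 → ℤ) => ?_))
      have h10 := ch_rel e y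
      rw [wm_v8, neg_mulVec, one_mulVec, ← neg_one_smul ℤ, ch_zsmul, _root_.zpow_neg_one, inv_eq_iff_mul_eq_one] at h10
      rw [map_pow, map_one, sq]
      exact h10
  have d3 := dvd_lab hA χ h3 Nat.prime_three (a := 0) (wm_inj X (by
    rw [zero_add, pow_one, pow_three, wm_mul, wm_mul, TF.wm_one, ← sub_eq_zero, ← mul_zero (wm X (el X v3) - 1), ← wm_v3 (X := X)]
    noncomm_ring)) S (h1 _ h3) fun c hc e => by
      obtain ⟨h1, -, h2⟩ := (hS c).1 hc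
      refine h1 (eq_one_of h2 (n := 3) (by decide) (cube_of_ch fun y => ?_))
      rw [pow_zero, pow_one] at e
      have h10 := congrArg (fun A => ch X (A *ᵥ y) c) (wm_v3 (X := X))
      simp only [add_mulVec, one_mulVec, zero_mulVec, ← mulVec_mulVec, ch_add, ch_rel e, ch_zero] at h10
      rw [pow_succ, sq, h10]
  exact (show IsCoprime (8 : ℤ) 3 by norm_num).mul_dvd d8 d3

theorem sylT {i : Fin 11} (h : ¬ 5 ∣ dG (2 ^ m) i) : SylT X.D 5 (wT X i) := by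
  obtain ⟨n, hn⟩ := card_GF hA
  have h1 : Nat.card ↥(GF X.F ⊤) = 2 ^ n * (dG (2 ^ m) i).natAbs * ordT X.D (wT X i) := by
    have h2 := congrArg Int.natAbs (dG_mul (2 ^ m) i)
    rw [← ord_wT X, Int.natAbs_mul, Int.natAbs_mul, (by decide : ∀ i, (sG i).natAbs = 1), one_mul, Int.natAbs_natCast] at h2
    rw [mul_assoc, h2, ← Int.natAbs_natCast (Nat.card _), hn, Int.natAbs_mul, Int.natAbs_pow]
    rfl
  have h2 := (Nat.card_pos (α := ↥(GF X.F ⊤))).ne'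
  rw [h1] at h2
  rw [SylT, h1, Nat.factorization_mul (left_ne_zero_of_mul h2) (right_ne_zero_of_mul h2), Finsupp.add_apply,
    Nat.factorization_eq_zero_of_not_dvd, zero_add]
  rw [Nat.prime_five.dvd_mul, not_or]
  exact ⟨fun e => absurd (Nat.prime_five.dvd_of_dvd_pow e) (by decide), fun e => h (Int.natCast_dvd.2 e)⟩

theorem hz_GF (hm : 2 ≤ m) {M : Ideal AlgInt} (hM : IsPModular 5 M) : HZ0 5 M ↥(GF X.F ⊤) := by
  classical
  obtain ⟨i, hi, h⟩ := exists_i m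
  refine fun χ hχ hd => ?_
  have hS := sylT hA fun e => (h i).1 e rfl
  have e1 := Basic.irr_one_eq_charDegree χ.2
  by_cases h0 : classInner χ.1 (RW f (wT X i) 1) = 0
  · have := Fintype.ofFinite (LS X.D 5 (wT X i))
    obtain ⟨S, hS'⟩ : ∃ S : Finset (Lbl X.D), ∀ c, c ∈ S ↔ c ≠ 1 ∧ c ∈ LS X.D 5 (wT X i) :=
      ⟨(Set.toFinset (LS X.D 5 (wT X i) : Set (Lbl X.D))).erase 1, fun c => by simp⟩
    have h1 : mL f 5 (wT X i) 1 χ = (∑ c ∈ S, mu (RW f (wT X i) c) χ : ℤ) := by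
      rw [mL_sum f (G2.fx_one _), ← Finset.sum_subtype (insert 1 S) (p := (· ∈ LS X.D 5 (wT X i))) (fun c => ?_)
        fun c => classInner χ.1 (RW f (wT X i) (1 * c)), Finset.sum_insert fun e => ((hS' _).1 e).1 rfl, mul_one, h0, zero_add,
        Int.cast_sum]
      · exact Finset.sum_congr rfl fun c _ => by rw [one_mul, mu_spec (hA.gen _ _)]
      · rw [Finset.mem_insert, hS']
        exact ⟨fun e => e.elim (fun e => e ▸ one_mem _) (·.2), fun e => (em (c = 1)).imp_right fun e' => ⟨e', e⟩⟩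
    have h2 := (prin f hM (by decide) hS hχ h1).1
    have h3 := (prin_dvd_iff f hM (by decide) hS hχ h1).1 hd
    have h4 := dvd_sum hA χ hi S hS'
    have h5 : |∑ c ∈ S, mu (RW f (wT X i) c) χ| ≤ 96 := ((Finset.abs_sum_le_sum_abs _ _).trans
      (Finset.sum_le_sum fun c _ => (Int.le_self_sq _).trans_eq (sq_abs _))).trans ((bes_tor hA χ _ S).trans_eq (by
        rw [card_cw]
        rcases hi with rfl | rfl <;> rfl))
    rw [abs_le] at h5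
    omega
  · by_cases h1 : χ.1 = fun _ => 1
    · rw [h1] at e1
      rw [h1, ← (Nat.cast_inj (R := ℂ)).1 (Nat.cast_one.trans e1)] at hd
      exact absurd hd (by decide)
    by_cases h2 : χ.1 = stF f
    · rw [← (Nat.cast_inj (R := ℂ)).1 (hA.st.2.symm.trans ((congrFun h2 1).symm.trans e1))] at hd
      exact absurd (Nat.prime_five.dvd_of_dvd_pow hd) (by decide)
    obtain ⟨n, t, j, hc, e2, e3⟩ := rowG hA χ h1 h2 h0
    obtain ⟨a, ha⟩ := card_GF hA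
    exact deg_mod hm hc (δ := charDegree χ.1) (by exact_mod_cast Basic.charDegree_pos χ.2) (by rw [e1] at e3; exact_mod_cast e3)
      (by rw [← ha]; exact_mod_cast deg_dvd_card χ) hi h (fun e => h0 (by rw [e2, e, Int.cast_zero])) (by exact_mod_cast hd)

omit hA in
/-- **the row `tf4` for `p = 5`** -/
theorem row_tf4 : Row 5 fun S _ => Lie.Iso2F4 S := fun M hM S _ _ _ _ h _ h5 _ => by
  obtain ⟨m, hm, k, _, _, _, X, ⟨s⟩⟩ := row_2F4 h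
  have := X.finite
  have := Fintype.ofFinite ↥(GF X.F ⊤)
  obtain ⟨f⟩ := nonempty_fr X.D
  have hA := Mts.boxApi f X.D_qs
  refine hz_down s.sit hM (hz_GF hA (hm.lt_of_ne fun e => ?_) hM)
  subst e
  obtain ⟨n, hn⟩ := card_GF hA
  have h1 : ((5 ^ 3 : ℕ) : ℤ) ∣ 2 ^ n * oG (2 ^ 1) := hn ▸ Int.natCast_dvd_natCast.2
    ((h5.trans (Subgroup.card_dvd_of_surjective _ s.sit.surj)).trans (Subgroup.card_dvd_of_le s.sit.le))
  exact absurd ((IsCoprime.pow_right (show IsCoprime ((5 ^ 3 : ℕ) : ℤ) 2 by norm_num)).dvd_of_dvd_mul_left h1) (by decide)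

end Cfsg.Agent.LV.TF
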