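import Cfsg.Agent.KZ.TF.Mix

/-!
# LV, `²F₄`, `p = 5`: general facts on sums over labels (helper90)

`dvd_sum_per` : sums over free orbits; `bes_tor` : Bessel's inequality for one torus; `dvd_lab` : free action of an element of the
relative Weyl group on a set of labels.
-/

set_option autoImplicit false
set_option linter.unusedSectionVars false

namespace Cfsg.Agent.LV.TF

open Cfsg Cfsg.Agent.DL Cfsg.Agent.DL.PP Cfsg.Agent.KZ.Lie Cfsg.Agent.Characters.Core Matrix Cfsg.Agent.KZ Cfsg.Agent.KZ.G2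
  Function

theorem dvd_sum_per {ι : Type} (τ : ι → ι) (g : ι → ℤ) {n : ℕ} (hn : 0 < n) (S : Finset ι) (hS : ∀ x ∈ S, τ x ∈ S)
    (hg : ∀ x ∈ S, g (τ x) = g x) (hp : ∀ x ∈ S, minimalPeriod τ x = n) : (n : ℤ) ∣ ∑ x ∈ S, g x := by
  classical
  induction S using Finset.strongInduction with
  | H S ih =>
    rcases S.eq_empty_or_nonempty with rfl | ⟨x, hx⟩
    · simp
    have h1 : ∀ j, τ^[j] x ∈ S ∧ g (τ^[j] x) = g x := fun j => by
      induction j with
      | zero => exact ⟨hx, rfl⟩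
      | succ j h => rw [iterate_succ_apply']; exact ⟨hS _ h.1, (hg _ h.1).trans h.2⟩
    have hO : (Finset.range n).image (τ^[·] x) ⊆ S := fun y hy => by
      obtain ⟨j, -, rfl⟩ := Finset.mem_image.1 hy
      exact (h1 j).1
    rw [← Finset.sum_sdiff hO, Finset.sum_image fun a ha b hb e => iterate_injOn_Iio_minimalPeriod
      (by rw [hp x hx]; exact Finset.mem_range.1 ha) (by rw [hp x hx]; exact Finset.mem_range.1 hb) e,
      Finset.sum_congr rfl fun j _ => (h1 j).2, Finset.sum_const, Finset.card_range, nsmul_eq_mul]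
    refine dvd_add (ih _ (Finset.sdiff_ssubset hO ⟨x, Finset.mem_image.2 ⟨0, Finset.mem_range.2 hn, rfl⟩⟩) (fun y hy => ?_)
      (fun y hy => hg y (Finset.mem_sdiff.1 hy).1) fun y hy => hp y (Finset.mem_sdiff.1 hy).1) (dvd_mul_right _ _)
    obtain ⟨h2, h3⟩ := Finset.mem_sdiff.1 hy
    refine Finset.mem_sdiff.2 ⟨hS y h2, fun h4 => h3 ?_⟩
    obtain ⟨j, -, e⟩ := Finset.mem_image.1 h4
    refine Finset.mem_image.2 ⟨(n - 1 + j) % n, Finset.mem_range.2 (Nat.mod_lt _ hn), ?_⟩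
    have h5 : τ^[n] y = y := hp y h2 ▸ iterate_minimalPeriod
    rw [← hp x hx, iterate_mod_minimalPeriod_eq, hp x hx, iterate_add_apply, e, ← iterate_succ_apply, Nat.succ_eq_add_one,
      Nat.sub_add_cancel hn, h5]

variable {p : ℕ} [Fact p.Prime] {k : Type} [Field k] [CharP k p] {Y : Type} [Group Y] {N : Type} [Fintype N]
  [DecidableEq N] {ρ : Y →* GL N k} {F : MulAut Y} {G : Subgroup Y} [IsAlgClosed k] {D : Datum p ρ F G}

theorem rel_iter (v : D.W) (c : Lbl D) (j : ℕ) : Rel D (v ^ j) ((mon (D.Wm v)ᵀ)^[j] c) c := by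
  induction j with
  | zero => rw [pow_zero]; exact rel_one D c
  | succ j h => rw [pow_succ, iterate_succ_apply']; exact (rel_iff.2 rfl).trans h

variable {f : Fr D} [Fintype ↥(GF F G)] (hA : Api f)
include hA

/-- Bessel's inequality for one torus -/
theorem bes_tor (χ : IrrCharacter ↥(GF F G)) (w : D.W) (S : Finset (Lbl D)) :
    ∑ c ∈ S, mu (RW f w c) χ ^ 2 ≤ Nat.card (CW D w) := by
  classical
  have := Fintype.ofFinite D.W
  obtain ⟨g, hg⟩ : ∃ g : D.W → ℝ, ∀ u, g u = ∑ᶠ c, ‖classInner (χ : ↥(GF F G) → ℂ) (RW f u c)‖ ^ 2 := ⟨_, fun _ => rfl⟩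
  have h0 : ∀ u, 0 ≤ g u := fun u => hg u ▸ finsum_nonneg fun _ => sq_nonneg _
  have h1 := hA.bessel χ
  rw [classInner_irr_self χ.2, finsum_eq_sum_of_fintype, Complex.one_re, ← Finset.sum_congr rfl fun u _ => hg u] at h1
  have h2 := TF.sum_tc (K := ℝ) w g fun v u u' h => by
    rw [hg, hg]
    refine (finsum_eq_of_bijective (mon (D.Wm v)ᵀ) ⟨fun a b e => ?_, fun a => ?_⟩ fun c => ?_).symm
    · rw [rel_iff.1 (rel_iff.2 rfl : Rel D v _ a).symm, e, ← rel_iff.1 (rel_iff.2 rfl : Rel D v _ b).symm]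
    · obtain ⟨b, hb⟩ := TF.Mix.exists_rel v a
      exact ⟨b, (rel_iff.1 hb).symm⟩
    · rw [hA.conj v u u' _ c h (rel_iff.2 rfl)]
  have h3 : (0 : ℝ) < Nat.card D.W := by exact_mod_cast Nat.card_pos
  have h4 : g w ≤ Nat.card (CW D w) := by
    refine le_of_mul_le_mul_left (h2.symm.trans_le ((Finset.sum_le_sum fun u _ => mul_le_mul_of_nonneg_right
      (c := (Nat.card (CW D w) : ℝ)) ?_ (h0 u)).trans ?_)) h3
    · by_cases h : ∃ v, Tc D v w u
      · rw [TF.card_tc h.choose_spec]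
      · have : IsEmpty {v // Tc D v w u} := ⟨fun x => h ⟨x.1, x.2⟩⟩
        rw [Nat.card_of_isEmpty, Nat.cast_zero]
        exact Nat.cast_nonneg _
    · rw [← Finset.mul_sum, mul_comm]
      exact mul_le_mul_of_nonneg_right ((inv_mul_le_one₀ h3).1 h1) (Nat.cast_nonneg _)
  have h5 : (support fun c => ‖classInner (χ : ↥(GF F G) → ℂ) (RW f w c)‖ ^ 2).Finite :=
    Set.Finite.subset (s := {c | Fx D w c}) (finite_Fx D w) fun c hc => by_contra fun h => hc (by
      beta_reduce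
      rw [hA.zero _ _ h, classInner_zero_right, norm_zero, zero_pow two_ne_zero])
  have h6 : ((∑ c ∈ S, mu (RW f w c) χ ^ 2 : ℤ) : ℝ) ≤ g w := by
    rw [hg, finsum_eq_sum_of_support_subset (s := S ∪ h5.toFinset) _ (by simp)]
    refine le_trans (le_of_eq ?_) (Finset.sum_le_sum_of_subset_of_nonneg Finset.subset_union_left fun _ _ _ => sq_nonneg _)
    push_cast
    exact Finset.sum_congr rfl fun c _ => by rw [mu_spec (hA.gen w c) χ, Complex.norm_intCast, sq_abs]
  exact_mod_cast h6.trans h4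

/-- an element of prime power order which acts freely on a set of labels -/
theorem dvd_lab (χ : IrrCharacter ↥(GF F G)) {w v : D.W} (hv : v ∈ CW D w) {q a : ℕ} (hq : q.Prime) (h1 : v ^ q ^ (a + 1) = 1)
    (S : Finset (Lbl D)) (hS : ∀ c ∈ S, ∀ c', Rel D v c' c → c' ∈ S) (h2 : ∀ c ∈ S, ¬ Rel D (v ^ q ^ a) c c) :
    ((q ^ (a + 1) : ℕ) : ℤ) ∣ ∑ c ∈ S, mu (RW f w c) χ := by
  have := Fact.mk hq
  refine dvd_sum_per (mon (D.Wm v)ᵀ) _ (pow_pos hq.pos _) S (fun c hc => hS c hc _ (rel_iff.2 rfl))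
    (fun c _ => by rw [hA.conj _ _ _ _ _ hv (rel_iff.2 rfl)]) fun c hc => minimalPeriod_eq_prime_pow (fun e => h2 c hc ?_) ?_
  · have h3 := rel_iter v c (q ^ a)
    rwa [e.eq] at h3
  · have h3 := rel_iter v c (q ^ (a + 1))
    rw [h1, rel_iff, D.Wm_one, transpose_one, DL.mon_one] at h3
    exact h3

end Cfsg.Agent.LV.TF
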